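import Cfsg.Agent.Lib.BrauerHomo.Block
import Cfsg.Agent.Lib.SelfCentPrime.Derived
import Cfsg.Agent.Lib.Transfer.Tate

/-!
# Groups with a homocyclic Sylow 2-subgroup of rank two

`aut_odd`: automorphisms of odd order of such a group form a group of order one or three without fixed points.
`exists_linear_of_range`: the hypotheses of Brauer's argument. `normal_of_homocyclic`: the Sylow subgroup is normal.
-/

set_option autoImplicit false

namespace Cfsg.Agent.BrauerHomo

open Cfsg

universe u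

theorem homo_facts {S : Type*} [Group S] {m : ℕ} (hm : 2 ≤ m)
    (e : S ≃* Multiplicative (ZMod (2 ^ m) × ZMod (2 ^ m))) :
    (∀ a b : S, a * b = b * a) ∧ Nat.card S = 2 ^ (2 * m) ∧
      Nat.card {x : S // x * x = 1 ∧ x ≠ 1} = 3 ∧ ∃ u : S, u * u ≠ 1 := by
  classical
  haveI : NeZero (2 ^ m) := ⟨by positivity⟩
  refine ⟨fun a b => e.injective (by rw [map_mul, map_mul, mul_comm]), ?_, ?_, ?_⟩
  · rw [Nat.card_congr (e.toEquiv.trans Multiplicative.toAdd), Nat.card_prod, Nat.card_zmod, ← pow_add, two_mul]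
  · obtain ⟨l, rfl⟩ : ∃ l, m = l + 1 := ⟨m - 1, by omega⟩
    have hh : ∀ a : ZMod (2 ^ (l + 1)), a + a = 0 ↔ a = 0 ∨ a = (2 ^ l : ℕ) := by
      intro a
      have hv := ZMod.val_lt a
      have hp : 2 ^ (l + 1) = 2 ^ l * 2 := pow_succ 2 l
      constructor
      · intro h
        have h1 : ((a.val + a.val : ℕ) : ZMod (2 ^ (l + 1))) = 0 := by
          rw [Nat.cast_add, ZMod.natCast_zmod_val, h]
        obtain ⟨c, hc⟩ := (ZMod.natCast_eq_zero_iff _ _).1 h1
        have hc2 : c < 2 := by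
          by_contra hc2
          have : 2 ^ (l + 1) * 2 ≤ 2 ^ (l + 1) * c := Nat.mul_le_mul_left _ (not_lt.1 hc2)
          omega
        interval_cases c
        · exact Or.inl ((ZMod.val_eq_zero a).1 (by omega))
        · right
          rw [← ZMod.natCast_zmod_val a]
          congr 1
          omega
      · rintro (rfl | rfl)
        · exact add_zero 0
        · rw [← Nat.cast_add, ZMod.natCast_eq_zero_iff]
          exact ⟨1, by omega⟩
    have hne : ((2 ^ l : ℕ) : ZMod (2 ^ (l + 1))) ≠ 0 := by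
      rw [Ne, ZMod.natCast_eq_zero_iff]
      exact Nat.not_dvd_of_pos_of_lt (by positivity) (by rw [pow_succ]; have := Nat.one_le_two_pow (n := l); omega)
    set h := ((2 ^ l : ℕ) : ZMod (2 ^ (l + 1)))
    let T : Finset (ZMod (2 ^ (l + 1)) × ZMod (2 ^ (l + 1))) := {(0, h), (h, 0), (h, h)}
    have hT : T.card = 3 := by simp [T, hne, hne.symm]
    refine (Nat.card_congr ((e.toEquiv.trans Multiplicative.toAdd).subtypeEquiv fun x => ?_)).trans
      (((Nat.card_eq_fintype_card (α := {v // v ∈ T}))).trans (by rw [Fintype.card_coe, hT]))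
    have h1 : x * x = 1 ↔ Multiplicative.toAdd (e x) + Multiplicative.toAdd (e x) = 0 := by
      rw [← toAdd_mul, ← map_mul, toAdd_eq_zero, MulEquiv.map_eq_one_iff]
    have h2 : x ≠ 1 ↔ Multiplicative.toAdd (e x) ≠ 0 := by
      rw [Ne, Ne, toAdd_eq_zero, MulEquiv.map_eq_one_iff]
    rw [h1, h2]
    show _ ↔ Multiplicative.toAdd (e x) ∈ T
    obtain ⟨v, w⟩ := Multiplicative.toAdd (e x)
    simp only [Prod.mk_add_mk, Prod.ext_iff, Prod.fst_zero, Prod.snd_zero, hh, T, Finset.mem_insert,
      Finset.mem_singleton, ne_eq]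
    grind
  · refine ⟨e.symm (Multiplicative.ofAdd (1, 0)), fun h => ?_⟩
    rw [← map_mul, MulEquiv.map_eq_one_iff, ← ofAdd_add, ofAdd_eq_one] at h
    have h1 : ((2 : ℕ) : ZMod (2 ^ m)) = 0 := by
      have := congrArg Prod.fst h
      simpa [one_add_one_eq_two] using this
    rw [ZMod.natCast_eq_zero_iff] at h1
    have := Nat.le_of_dvd (by norm_num) h1
    have := Nat.pow_le_pow_right (show 0 < 2 by norm_num) hm
    omega

/-- Automorphisms of odd order. -/
theorem aut_odd {S : Type*} [Group S] [Finite S] (hcomm : ∀ a b : S, a * b = b * a) {k : ℕ}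
    (hq : Nat.card S = 2 ^ k) (hΩ : Nat.card {x : S // x * x = 1 ∧ x ≠ 1} = 3)
    (R : Subgroup (MulAut S)) (hR : Odd (Nat.card R)) :
    (Nat.card R = 1 ∨ Nat.card R = 3) ∧ ∀ φ ∈ R, ∀ u : S, u ≠ 1 → φ u = u → φ = 1 := by
  classical
  set Ω := {x : S // x * x = 1 ∧ x ≠ 1}
  have htriv : ∀ φ : MulAut S, Odd (orderOf φ) → (∀ x : Ω, φ x.1 = x.1) → φ = 1 := by
    intro φ ho hfix
    have hfix1 : ∀ t : S, t * t = 1 → φ t = t := fun t ht => by
      by_cases h1 : t = 1
      · rw [h1, map_one]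
      · exact hfix ⟨t, ht, h1⟩
    have hall : ∀ j : ℕ, ∀ x : S, x ^ 2 ^ j = 1 → φ x = x := by
      intro j
      induction j with
      | zero => intro x hx; rw [pow_zero, pow_one] at hx; rw [hx, map_one]
      | succ j ih =>
        intro x hx
        have hsq : φ (x * x) = x * x := ih _ (by rw [← pow_two, ← pow_mul, ← pow_succ']; exact hx)
        set t := x⁻¹ * φ x
        have hφx : φ x = x * t := (mul_inv_cancel_left x _).symm
        have ht2 : t * t = 1 := by
          rw [map_mul, hφx] at hsq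
          refine mul_left_cancel (a := x * x) ?_
          calc x * x * (t * t) = x * (x * t) * t := by group
            _ = x * (t * x) * t := by rw [hcomm x t]
            _ = x * t * (x * t) := by group
            _ = x * x * 1 := by rw [hsq, mul_one]
        have hit : ∀ i : ℕ, (φ ^ i) x = x * t ^ i := by
          intro i
          induction i with
          | zero => simp
          | succ i ih' =>
            rw [pow_succ', MulAut.mul_apply, ih', map_mul, map_pow, hfix1 t ht2, hφx, mul_assoc, ← pow_succ']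
        have h1 := hit (orderOf φ)
        rw [pow_orderOf_eq_one, MulAut.one_apply] at h1
        obtain ⟨i, hi⟩ := ho
        rw [hi, pow_succ, pow_mul, pow_two, ht2, one_pow, one_mul] at h1
        rw [hφx]
        exact h1.symm
    exact MulEquiv.ext fun x => hall k x (by rw [← hq, pow_card_eq_one'])
  let act : MulAut S →* Equiv.Perm Ω :=
    { toFun := fun φ => φ.toEquiv.subtypeEquiv fun x => by
        show _ ↔ φ x * φ x = 1 ∧ φ x ≠ 1
        rw [← map_mul, MulEquiv.map_eq_one_iff, Ne, Ne, MulEquiv.map_eq_one_iff]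
      map_one' := Equiv.ext fun _ => rfl
      map_mul' := fun _ _ => Equiv.ext fun _ => rfl }
  have hodd : ∀ φ ∈ R, Odd (orderOf φ) := fun φ hφ =>
    hR.of_dvd_nat (Subgroup.orderOf_dvd_natCard R hφ)
  have hinj : Function.Injective (act.comp R.subtype) := by
    rw [← MonoidHom.ker_eq_bot_iff, eq_bot_iff]
    intro φ hφ
    rw [MonoidHom.mem_ker] at hφ
    refine Subgroup.mem_bot.2 (Subtype.ext (htriv _ (hodd _ φ.2) fun x => ?_))
    exact congrArg Subtype.val (DFunLike.congr_fun hφ x)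
  have h6 : Nat.card R ∣ 6 := by
    have h := Subgroup.card_dvd_of_injective _ hinj
    rw [Nat.card_perm, hΩ] at h
    exact h
  refine ⟨?_, fun φ hφ u hu hfix => ?_⟩
  · have := Nat.le_of_dvd (by norm_num) h6
    obtain ⟨i, hi⟩ := hR
    interval_cases hc : Nat.card R <;> omega
  -- a power of `u` is a fixed involution
  obtain ⟨j, -, hj⟩ := (Nat.dvd_prime_pow Nat.prime_two).1 (hq ▸ orderOf_dvd_natCard u)
  obtain ⟨i, rfl⟩ : ∃ i, j = i + 1 := ⟨j - 1, by
    rcases Nat.eq_zero_or_pos j with rfl | h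
    · rw [pow_zero, orderOf_eq_one_iff] at hj; exact absurd hj hu
    · omega⟩
  have hz1 : u ^ 2 ^ i ≠ 1 := fun h => by
    have := Nat.le_of_dvd (by positivity) (hj ▸ orderOf_dvd_of_pow_eq_one h)
    rw [pow_succ] at this
    have := Nat.one_le_two_pow (n := i)
    omega
  have hz2 : u ^ 2 ^ i * u ^ 2 ^ i = 1 := by
    rw [← pow_add, ← two_mul, ← pow_succ', ← hj, pow_orderOf_eq_one]
  have hzfix : act φ ⟨u ^ 2 ^ i, hz2, hz1⟩ = ⟨u ^ 2 ^ i, hz2, hz1⟩ :=
    Subtype.ext (by show φ (u ^ 2 ^ i) = _; rw [map_pow, hfix])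
  haveI := Fintype.ofFinite Ω
  let e3 : Ω ≃ Fin 3 := Fintype.equivFinOfCardEq (by rw [← Nat.card_eq_fintype_card, hΩ])
  have hφ3 : φ ^ 3 = 1 := by
    refine orderOf_dvd_iff_pow_eq_one.1 ((Subgroup.orderOf_dvd_natCard R hφ).trans ?_)
    have hle := Nat.le_of_dvd (by norm_num) h6
    obtain ⟨i', hi'⟩ := hR
    interval_cases hc : Nat.card R <;> omega
  have hperm : ∀ π : Equiv.Perm (Fin 3), π ^ 3 = 1 → ∀ a, π a = a → π = 1 := by decide
  have hone : e3.permCongrHom (act φ) = 1 := hperm _ (by rw [← map_pow, ← map_pow, hφ3, map_one, map_one])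
    (e3 ⟨u ^ 2 ^ i, hz2, hz1⟩) (by simp [Equiv.permCongrHom, Equiv.permCongr_apply, hzfix])
  refine htriv φ (hodd φ hφ) fun x => ?_
  exact congrArg Subtype.val (DFunLike.congr_fun ((MulEquiv.map_eq_one_iff _).1 hone) x)

variable {G : Type*} [Group G] [Finite G]

theorem range_odd (P : Sylow 2 G) (hcomm : ∀ a b : (P : Subgroup G), a * b = b * a) :
    Odd (Nat.card (P : Subgroup G).normalizerMonoidHom.range) := by
  haveI : Fact (Nat.Prime 2) := ⟨Nat.prime_two⟩
  set N := Subgroup.normalizer ((P : Subgroup G) : Set G)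
  rw [← Subgroup.index_ker]
  have hle : (P : Subgroup G).subgroupOf N ≤ (P : Subgroup G).normalizerMonoidHom.ker := by
    intro m hm
    rw [MonoidHom.mem_ker]
    refine MulEquiv.ext fun w => Subtype.ext ?_
    show (m : G) * (w : G) * (m : G)⁻¹ = (w : G)
    rw [show (m : G) * (w : G) = (w : G) * (m : G) from congrArg Subtype.val
      (hcomm ⟨(m : G), Subgroup.mem_subgroupOf.1 hm⟩ w), mul_inv_cancel_right]
  refine Odd.of_dvd_nat (n := ((P : Subgroup G).subgroupOf N).index) ?_ (Subgroup.index_dvd_of_le hle)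
  refine Odd.of_dvd_nat (n := (P : Subgroup G).index) ?_ (Subgroup.relIndex_dvd_index_of_le Subgroup.le_normalizer)
  exact Nat.not_even_iff_odd.1 fun h => P.not_dvd_index (even_iff_two_dvd.1 h)

/-- If the normaliser induces a group of order three, some linear character is nontrivial, trivial on `P`. -/
theorem exists_linear_of_range (P : Sylow 2 G) {m : ℕ} (hm : 2 ≤ m)
    (e : (P : Subgroup G) ≃* Multiplicative (ZMod (2 ^ m) × ZMod (2 ^ m)))
    (h3 : Nat.card (P : Subgroup G).normalizerMonoidHom.range = 3) :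
    ∃ l : G →* ℂ, l ≠ 1 ∧ ∀ u ∈ P, l u = 1 := by
  classical
  haveI : Fact (Nat.Prime 2) := ⟨Nat.prime_two⟩
  haveI : Fact (Nat.Prime 3) := ⟨Nat.prime_three⟩
  obtain ⟨hcomm, hq, hΩ, u₀, hu₀⟩ := homo_facts hm e
  haveI : IsMulCommutative (P : Subgroup G) := ⟨⟨hcomm⟩⟩
  set N := Subgroup.normalizer ((P : Subgroup G) : Set G)
  set φ := (P : Subgroup G).normalizerMonoidHom
  obtain ⟨-, hfree⟩ := aut_odd hcomm hq hΩ φ.range (range_odd P hcomm)
  obtain ⟨τ, hτ⟩ : ∃ τ : φ.range, τ ≠ 1 := by
    haveI : Nontrivial φ.range := Finite.one_lt_card_iff_nontrivial.1 (by omega)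
    exact exists_ne 1
  obtain ⟨n, hn⟩ := τ.2
  let σ : (P : Subgroup G) ≃* (P : Subgroup G) := φ n
  have hσ1 : φ n ≠ 1 := fun h => hτ (Subtype.ext (hn ▸ h))
  have hσ3 : φ n ^ 3 = 1 := by
    have h := congrArg Subtype.val (pow_card_eq_one' (x := τ))
    rw [h3] at h
    rw [hn]
    exact h
  have hcube : ∀ u, σ (σ (σ u)) = u := fun u => by
    have h := DFunLike.congr_fun hσ3 u
    simpa [pow_succ, MulAut.mul_apply] using h
  have hmem3 : ∀ a : φ.range, a = 1 ∨ a = τ ∨ a = τ * τ := by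
    intro a
    have htop := zpowers_eq_top_of_prime_card h3 hτ
    obtain ⟨i, hi3, hi⟩ : ∃ i, i < 3 ∧ τ ^ i = a := by
      have ho : orderOf τ = 3 := orderOf_eq_prime (by rw [← h3]; exact pow_card_eq_one') hτ
      have ha : a ∈ Subgroup.zpowers τ := htop ▸ Subgroup.mem_top a
      obtain ⟨i, hi⟩ := (Subgroup.mem_zpowers_iff.1 ha)
      refine ⟨(i % (3 : ℤ)).toNat, by omega, ?_⟩
      rw [← zpow_natCast, Int.toNat_of_nonneg (Int.emod_nonneg _ (by norm_num)), ← hi]
      conv_rhs => rw [← zpow_mod_orderOf, ho]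
      norm_num
    interval_cases i
    · exact Or.inl (by rw [← hi, pow_zero])
    · exact Or.inr (Or.inl (by rw [← hi, pow_one]))
    · exact Or.inr (Or.inr (by rw [← hi, pow_two]))
  have hfpf : ∀ u, σ u = u → u = 1 := fun u hu => by
    by_contra h1
    exact hσ1 (hfree _ ⟨n, rfl⟩ u h1 hu)
  have hconjv : ∀ u : (P : Subgroup G), (σ u : G) = (n : G) * u * (n : G)⁻¹ := fun _ => rfl
  have hconj : ∀ u : (P : Subgroup G), IsConj (u : G) (σ u : G) := fun u =>
    isConj_iff.2 ⟨n, (hconjv u).symm⟩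
  have hfus : ∀ u w : (P : Subgroup G), IsConj (u : G) (w : G) → w = u ∨ w = σ u ∨ w = σ (σ u) := by
    intro u w h
    obtain ⟨g, hg⟩ := isConj_iff.1 h
    obtain ⟨n', hn', he⟩ := P.conj_eq_normalizer_conj_of_mem (u : G) g⁻¹ u.2 (by rw [inv_inv, hg]; exact w.2)
    rw [inv_inv, hg] at he
    have hw : w = φ ⟨n', hn'⟩⁻¹ u := Subtype.ext (by
      show (w : G) = n'⁻¹ * (u : G) * n'⁻¹⁻¹
      rw [inv_inv, he])
    rcases hmem3 ⟨φ ⟨n', hn'⟩⁻¹, ⟨_, rfl⟩⟩ with h | h | h
    · left
      have h' : φ ⟨n', hn'⟩⁻¹ = 1 := congrArg Subtype.val h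
      rw [hw, h']; rfl
    · right; left
      have h' : φ ⟨n', hn'⟩⁻¹ = φ n := (congrArg Subtype.val h).trans hn.symm
      rw [hw, h']
    · right; right
      have h' : φ ⟨n', hn'⟩⁻¹ = φ n * φ n := by rw [hn]; exact congrArg Subtype.val h
      rw [hw, h']; rfl
  have hcompl : ∀ u : (P : Subgroup G), u ≠ 1 →
      HasNormalPComplement 2 (Subgroup.centralizer ({(u : G)} : Set G)) ∧
      Nat.card (Subgroup.centralizer ({(u : G)} : Set G)) = Nat.card (P : Subgroup G) *
        Nat.card {s : Subgroup.centralizer ({(u : G)} : Set G) // ¬ 2 ∣ orderOf s} := by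
    intro u hu
    set C := Subgroup.centralizer ({(u : G)} : Set G)
    have hPC : (P : Subgroup G) ≤ C := fun a ha =>
      Subgroup.mem_centralizer_singleton_iff.2 (congrArg Subtype.val (hcomm ⟨a, ha⟩ u))
    let Q : Sylow 2 C := P.subtype hPC
    have hNC : Subgroup.normalizer ((Q : Subgroup C) : Set C) ≤ Subgroup.centralizer ((Q : Subgroup C) : Set C) := by
      intro c hc
      have hnu : (c : G) * u = u * (c : G) := Subgroup.mem_centralizer_singleton_iff.1 c.2
      have hcN : (c : G) ∈ N := by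
        refine Subgroup.mem_normalizer_iff.2 fun a => ⟨fun ha => ?_, fun ha => ?_⟩
        · exact (Subgroup.mem_normalizer_iff.1 hc ⟨a, hPC ha⟩).1 ha
        · have haC : a ∈ C := by
            have h := C.mul_mem (C.mul_mem (C.inv_mem c.2) (hPC ha)) c.2
            simpa [mul_assoc] using h
          exact (Subgroup.mem_normalizer_iff.1 hc ⟨a, haC⟩).2 ha
      have h1 : φ ⟨(c : G), hcN⟩ = 1 := hfree _ ⟨_, rfl⟩ u hu (Subtype.ext (by
        show (c : G) * u * (c : G)⁻¹ = u
        rw [hnu, mul_inv_cancel_right]))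
      refine Subgroup.mem_centralizer_iff.2 fun a ha => Subtype.ext ?_
      have h' := congrArg Subtype.val (DFunLike.congr_fun h1 (⟨(a : G), ha⟩ : (P : Subgroup G)))
      have h4 : (c : G) * a * (c : G)⁻¹ = a := h'
      exact (mul_inv_eq_iff_eq_mul.1 h4).symm
    haveI : IsMulCommutative (Q : Subgroup C) := ⟨⟨fun a b => Subtype.ext (Subtype.ext
      (show ((a : C) : G) * (b : C) = (b : C) * (a : C) from congrArg (fun t : (P : Subgroup G) => (t : G)) (hcomm ⟨((a : C) : G), a.2⟩ ⟨((b : C) : G), b.2⟩)))⟩⟩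
    have hcompl := Transfer.hasNormalPComplement_of_normalizer_le_centralizer Q hNC
    refine ⟨hcompl, ?_⟩
    have h2 := ((Transfer.isComplement'_pResidual_iff Q).mpr
      (Transfer.hasNormalPComplement_iff_coprime.mp hcompl)).card_mul
    have hQ : Nat.card (Q : Subgroup C) = Nat.card (P : Subgroup G) :=
      Nat.card_congr (Subgroup.subgroupOfEquivOfLe hPC).toEquiv
    rw [← h2, hQ, mul_comm]
    congr 1
    refine Nat.card_congr (Equiv.subtypeEquivRight fun s => ?_)
    rw [Transfer.mem_pResidual_iff hcompl, Nat.coprime_comm, Nat.prime_two.coprime_iff_not_dvd]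
  obtain ⟨z, hz⟩ := exists_prime_orderOf_dvd_card' (G := (P : Subgroup G)) 2
    (hq ▸ dvd_pow_self 2 (by omega))
  refine exists_linear σ hcomm hq (by omega) hcube hfpf hconj hfus hcompl z
    (by rw [Subgroup.orderOf_coe, hz]) u₀ hu₀ fun x y v hx hy huv hv hxy => ?_
  set u : G := (u₀ : G)
  obtain ⟨j, -, hj⟩ := (Nat.dvd_prime_pow Nat.prime_two).1 (hq ▸ Subgroup.orderOf_dvd_natCard _ u₀.2)
  have hxx : x * x = 1 := by rw [← pow_two, ← hx, pow_orderOf_eq_one]
  have hyy : y * y = 1 := by rw [← pow_two, ← hy, pow_orderOf_eq_one]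
  have hinv : x * (u * v) * x⁻¹ = u⁻¹ * v⁻¹ := by
    rw [← mul_inv_rev, ← huv.eq, ← hxy, mul_inv_rev, inv_eq_of_mul_eq_one_right hxx,
      inv_eq_of_mul_eq_one_right hyy, ← mul_assoc, hxx, one_mul]
  obtain ⟨hxu, -⟩ := SecondMain.conj_parts (p := 2) ⟨j, hj⟩ ⟨j, by rw [orderOf_inv, hj]⟩ hv
    (by rwa [orderOf_inv]) huv huv.inv_inv hinv
  have hxN : Subgroup.zpowers x ≤ Subgroup.normalizer (Subgroup.zpowers u : Set G) := by
    rw [Subgroup.zpowers_le, Subgroup.mem_normalizer_iff]
    have key : ∀ w, w ∈ Subgroup.zpowers u → x * w * x⁻¹ ∈ Subgroup.zpowers u := by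
      intro w hw
      obtain ⟨i, rfl⟩ := Subgroup.mem_zpowers_iff.1 hw
      rw [← conj_zpow, hxu]
      exact zpow_mem (inv_mem (Subgroup.mem_zpowers u)) i
    refine fun w => ⟨key w, fun h => ?_⟩
    have h' := key _ h
    rw [inv_eq_of_mul_eq_one_right hxx] at h'
    rwa [show x * (x * w * x) * x = (x * x) * w * (x * x) by group, hxx, one_mul, mul_one] at h'
  have hK : IsPGroup 2 ↥(Subgroup.zpowers u ⊔ Subgroup.zpowers x) :=
    (IsPGroup.of_card (n := j) (by rw [Nat.card_zpowers, hj]) : IsPGroup 2 (Subgroup.zpowers u)).to_sup_of_normal_left'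
      (IsPGroup.of_card (n := 1) (by rw [Nat.card_zpowers, hx, pow_one])) hxN
  obtain ⟨R, hRle⟩ := hK.exists_le_sylow
  obtain ⟨g, hg⟩ := MulAction.exists_smul_eq G R P
  have hin : ∀ w ∈ (R : Subgroup G), g * w * g⁻¹ ∈ (P : Subgroup G) := fun w hw => by
    rw [← hg]; exact ⟨w, hw, rfl⟩
  have hc := congrArg Subtype.val (hcomm
    ⟨_, hin x (hRle (Subgroup.mem_sup_right (Subgroup.mem_zpowers x)))⟩
    ⟨_, hin u (hRle (Subgroup.mem_sup_left (Subgroup.mem_zpowers u)))⟩)
  simp only [Subgroup.coe_mul] at hc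
  have hcomm' : x * u = u * x := by
    rw [show g * x * g⁻¹ * (g * u * g⁻¹) = g * (x * u) * g⁻¹ by group,
      show g * u * g⁻¹ * (g * x * g⁻¹) = g * (u * x) * g⁻¹ by group] at hc
    exact mul_left_cancel (mul_right_cancel hc)
  rw [hcomm', mul_inv_cancel_right] at hxu
  refine hu₀ (Subtype.ext ?_)
  rw [Subgroup.coe_mul, Subgroup.coe_one]
  exact eq_inv_iff_mul_eq_one.1 hxu

/-- Brauer's theorem: the Sylow subgroup is normal. -/
theorem normal_of_homocyclic {m : ℕ} (hm : 2 ≤ m) :
    ∀ (c : ℕ) (G : Type u) [Group G] [Finite G], Nat.card G = c → ∀ P : Sylow 2 G,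
      ((P : Subgroup G) ≃* Multiplicative (ZMod (2 ^ m) × ZMod (2 ^ m))) →
      (∀ N : Subgroup G, N.Normal → Odd (Nat.card N) → N = ⊥) → (P : Subgroup G).Normal := by
  haveI : Fact (Nat.Prime 2) := ⟨Nat.prime_two⟩
  intro c
  induction c using Nat.strong_induction_on with
  | _ c ih =>
    intro G _ _ hc P e hO
    obtain ⟨hcomm, hq, hΩ, -⟩ := homo_facts hm e
    set φ := (P : Subgroup G).normalizerMonoidHom
    rcases (aut_odd hcomm hq hΩ φ.range (range_odd P hcomm)).1 with h1 | h3
    · haveI : IsMulCommutative (P : Subgroup G) := ⟨⟨hcomm⟩⟩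
      have hNC : Subgroup.normalizer ((P : Subgroup G) : Set G) ≤ Subgroup.centralizer ((P : Subgroup G) : Set G) := by
        intro n hn
        have h : φ ⟨n, hn⟩ = 1 := by
          haveI := (Nat.card_eq_one_iff_unique.1 h1).1
          exact congrArg Subtype.val (Subsingleton.elim (⟨φ ⟨n, hn⟩, ⟨_, rfl⟩⟩ : φ.range) 1)
        refine Subgroup.mem_centralizer_iff.2 fun a ha => ?_
        have h4' := congrArg Subtype.val (DFunLike.congr_fun h (⟨a, ha⟩ : (P : Subgroup G)))
        have h4 : n * a * n⁻¹ = a := h4'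
        exact (mul_inv_eq_iff_eq_mul.1 h4).symm
      have hcompl := MonoidHom.ker_transferSylow_isComplement' P hNC
      have hbot := hO _ (MonoidHom.normal_ker _) (Nat.not_even_iff_odd.1 fun h =>
        MonoidHom.not_dvd_card_ker_transferSylow P hNC (even_iff_two_dvd.1 h))
      rw [hbot, Subgroup.isComplement'_bot_left] at hcompl
      rw [hcompl]
      infer_instance
    · obtain ⟨l, hl1, hlP⟩ := exists_linear_of_range P hm e h3
      set K := l.toHomUnits.ker
      have hPK : (P : Subgroup G) ≤ K := fun u hu => by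
        rw [MonoidHom.mem_ker]
        exact Units.ext (hlP u hu)
      have hK : K ≠ ⊤ := fun h => hl1 (MonoidHom.ext fun g => by
        have hg : g ∈ K := h ▸ Subgroup.mem_top g
        rw [MonoidHom.mem_ker] at hg
        exact congrArg Units.val hg)
      haveI hKn : K.Normal := MonoidHom.normal_ker _
      have hlt : Nat.card K < c := by
        rw [← hc]
        exact lt_of_le_of_ne (Subgroup.card_le_card_group K) fun h => hK (Subgroup.eq_top_of_card_eq K h)
      let Q : Sylow 2 K := P.subtype hPK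
      haveI := SelfCentPrime.pPrimeCore_characteristic 2 K
      have hcore : pPrimeCore 2 K = ⊥ := by
        refine (Subgroup.map_eq_bot_iff_of_injective _ K.subtype_injective).1 (hO _ inferInstance ?_)
        rw [Subgroup.card_map_of_injective K.subtype_injective, ← Nat.coprime_two_right]
        exact SelfCentPrime.card_pPrimeCore_coprime 2 K
      have hQn : (Q : Subgroup K).Normal := ih _ hlt K rfl Q
        ((Subgroup.subgroupOfEquivOfLe hPK).trans e) fun N hN hodd => eq_bot_iff.2 (by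
          rw [← hcore]
          exact le_sSup ⟨hN, Nat.coprime_two_right.2 hodd⟩)
      haveI := Sylow.characteristic_of_normal Q hQn
      have hmap : (Q : Subgroup K).map K.subtype = (P : Subgroup G) := by
        show ((P : Subgroup G).subgroupOf K).map K.subtype = _
        rw [Subgroup.subgroupOf_map_subtype, inf_eq_left.2 hPK]
      rw [← hmap]
      infer_instance

end Cfsg.Agent.BrauerHomo
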