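import Cfsg.Agent.Lib.BrauerHomo.Vectors
import Cfsg.Agent.Lib.SecondMain.KleinFour
import Cfsg.Agent.Lib.Char.ClassMult
import Cfsg.Agent.Lib.Char.Linear
import Cfsg.Agent.Lib.Blocks.Induced

/-!
# The principal 2-block of a group with a homocyclic Sylow 2-subgroup and three-element fusion classes

`exists_linear`: Brauer's argument. The coefficients `c χ μ` of the principal block at the functions `1 - μ` on the
Sylow subgroup are integer vectors of norm four with pairwise inner products three, so all contain the same three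
characters; the absence of products of two involutions in the section of an element of order at least four forces
one of them to be linear and trivial on the Sylow subgroup.
-/

set_option autoImplicit false

open scoped ComplexConjugate

namespace Cfsg.Agent.BrauerHomo

open Cfsg Cfsg.Agent.Blocks

variable {G : Type*} [Group G] [Finite G]

section sylow

variable {S : Type*} [Group S] [Finite S]

theorem irr_mul (hcomm : ∀ a b : S, a * b = b * a) (μ : IrrCharacter S) (a b : S) :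
    (μ : S → ℂ) (a * b) = (μ : S → ℂ) a * (μ : S → ℂ) b := by
  obtain ⟨l, hl⟩ := Char.exists_hom_of_degree_one (Char.IsIrrCharacter.isCharacter μ.2)
    (Char.apply_one_eq_one_of_comm hcomm μ)
  rw [← hl, map_mul]

open scoped Classical in
theorem sum_irr_apply [Fintype (IrrCharacter S)] (hcomm : ∀ a b : S, a * b = b * a) (a b : S) :
    ∑ μ : IrrCharacter S, (μ : S → ℂ) a * conj ((μ : S → ℂ) b)
      = if a = b then (Nat.card S : ℂ) else 0 := by
  rw [Char.column_orth]
  have hiff : IsConj a b ↔ a = b := ⟨fun h => by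
    obtain ⟨c, hc⟩ := isConj_iff.1 h
    rwa [hcomm c a, mul_inv_cancel_right] at hc, fun h => h ▸ IsConj.refl _⟩
  have hC : Subgroup.centralizer ({a} : Set S) = ⊤ :=
    eq_top_iff.2 fun c _ => Subgroup.mem_centralizer_singleton_iff.2 (hcomm c a)
  by_cases h : a = b
  · rw [if_pos (hiff.2 h), if_pos h, hC, Subgroup.card_top]
  · rw [if_neg (mt hiff.1 h), if_neg h]

end sylow

/-- Brauer's argument. -/
theorem exists_linear {S : Subgroup G} (σ : S ≃* S) (hcomm : ∀ a b : S, a * b = b * a) {k : ℕ}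
    (hq : Nat.card S = 2 ^ k) (hk : 4 ≤ k) (hcube : ∀ u, σ (σ (σ u)) = u) (hfpf : ∀ u, σ u = u → u = 1)
    (hconj : ∀ u : S, IsConj (u : G) (σ u : G))
    (hfus : ∀ u w : S, IsConj (u : G) (w : G) → w = u ∨ w = σ u ∨ w = σ (σ u))
    (hcompl : ∀ u : S, u ≠ 1 → HasNormalPComplement 2 (Subgroup.centralizer ({(u : G)} : Set G)) ∧
      Nat.card (Subgroup.centralizer ({(u : G)} : Set G))
        = Nat.card S * Nat.card {s : Subgroup.centralizer ({(u : G)} : Set G) // ¬ 2 ∣ orderOf s})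
    (z : S) (hz : orderOf (z : G) = 2) (u₀ : S) (hu₀ : u₀ * u₀ ≠ 1)
    (hprod : ∀ x y v : G, orderOf x = 2 → orderOf y = 2 → Commute (u₀ : G) v → ¬ 2 ∣ orderOf v →
      x * y ≠ (u₀ : G) * v) :
    ∃ l : G →* ℂ, l ≠ 1 ∧ ∀ u ∈ S, l u = 1 := by
  classical
  haveI : Fact (Nat.Prime 2) := ⟨Nat.prime_two⟩
  haveI := Fintype.ofFinite G
  haveI := Fintype.ofFinite S
  haveI := Fintype.ofFinite (IrrCharacter G)
  haveI := Fintype.ofFinite (IrrCharacter S)
  obtain ⟨M, hM⟩ := exists_isPModular Nat.prime_two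
  have hB0 : IsPBlock M (principalBlock M G) := BrauerPairs.isPBlock_principal
  set B := (principalBlock M G).toFinset
  set q : ℂ := (Nat.card S : ℂ) with hqdef
  have hq0 : q ≠ 0 := Nat.cast_ne_zero.2 Nat.card_pos.ne'
  have hprod1 : ∀ u : S, u * σ u * σ (σ u) = 1 := fun u => hfpf _ (by
    rw [map_mul, map_mul, hcube, hcomm _ u, mul_assoc])
  -- facts on the linear characters of `S`
  have hdeg : ∀ μ : IrrCharacter S, (μ : S → ℂ) 1 = 1 := Char.apply_one_eq_one_of_comm hcomm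
  let oneS : IrrCharacter S := ⟨1, Char.isIrrCharacter_one⟩
  have horth := sum_irr_apply (S := S) hcomm
  have hsum0 : ∀ w : S, w ≠ 1 → ∑ μ : IrrCharacter S, (μ : S → ℂ) w = 0 := fun w hw => by
    have h := horth w 1
    rw [if_neg hw] at h
    rw [← h]
    exact Finset.sum_congr rfl fun μ _ => by rw [hdeg, map_one, mul_one]
  have hrow0 : ∀ μ : IrrCharacter S, μ ≠ oneS → ∑ u, (μ : S → ℂ) u = 0 := fun μ hμ => by
    have h := Char.classInner_irr_of_ne μ.2 oneS.2 fun e => hμ (Subtype.ext e)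
    rw [classInner, mul_eq_zero] at h
    have h' := h.resolve_left (inv_ne_zero (Nat.cast_ne_zero.2 Nat.card_pos.ne'))
    simpa [oneS] using h'
  have hrow : ∀ μ ν : IrrCharacter S,
      ∑ u, (μ : S → ℂ) u * conj ((ν : S → ℂ) u) = if μ = ν then q else 0 := fun μ ν => by
    rw [← Char.card_mul_classInner, Char.classInner_irr μ.2 ν.2]
    by_cases h : μ = ν
    · rw [if_pos (congrArg Subtype.val h), if_pos h, mul_one]
    · rw [if_neg fun e => h (Subtype.ext e), if_neg h, mul_zero]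
  let T : IrrCharacter S → IrrCharacter S := fun μ =>
    ⟨fun u => (μ : S → ℂ) (σ u), Char.IsIrrCharacter.comp_equiv μ.2 σ⟩
  have hT3 : ∀ μ, T (T (T μ)) = μ := fun μ => Subtype.ext (funext fun u => congrArg _ (hcube u))
  have hTone : T oneS = oneS := rfl
  have hTne : ∀ μ, μ ≠ oneS → T μ ≠ μ := by
    intro μ hμ he
    refine hμ (Subtype.ext (funext fun u => ?_))
    have he' : ∀ w, (μ : S → ℂ) (σ w) = (μ : S → ℂ) w := fun w =>
      congrFun (congrArg Subtype.val he) w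
    obtain ⟨l, hl⟩ := Char.exists_hom_of_degree_one (Char.IsIrrCharacter.isCharacter μ.2) (hdeg μ)
    have h3 : (μ : S → ℂ) u ^ 3 = 1 := by
      have h : (μ : S → ℂ) u * (μ : S → ℂ) u * (μ : S → ℂ) u = (μ : S → ℂ) (u * σ u * σ (σ u)) := by
        rw [irr_mul hcomm, irr_mul hcomm, he' (σ u), he']
      rw [hprod1, hdeg] at h
      rw [← h]; ring
    have hqp : (μ : S → ℂ) u ^ Nat.card S = 1 := by
      rw [← hl, ← map_pow, pow_card_eq_one', map_one]
    have hg := pow_gcd_eq_one.2 ⟨h3, hqp⟩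
    rw [hq, Nat.Coprime.gcd_eq_one (Nat.Coprime.pow_right k (by norm_num)), pow_one] at hg
    exact hg
  have hTne2 : ∀ μ, μ ≠ oneS → T (T μ) ≠ μ := fun μ hμ h => hTne μ hμ (by
    have h' := congrArg T h
    rw [hT3] at h'
    exact h'.symm)
  have hTne1 : ∀ μ, μ ≠ oneS → T μ ≠ oneS := fun μ hμ h => hμ (by
    rw [← hT3 μ, h, hTone, hTone])
  let orb : IrrCharacter S → Finset (IrrCharacter S) := fun μ => {μ, T μ, T (T μ)}
  have horb_card : ∀ μ, μ ≠ oneS → (orb μ).card = 3 := fun μ hμ => by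
    simp [orb, (hTne μ hμ).symm, (hTne2 μ hμ).symm, (hTne (T μ) (hTne1 μ hμ)).symm]
  have horb_sum : ∀ μ, μ ≠ oneS → ∀ f : IrrCharacter S → ℂ,
      ∑ ν ∈ orb μ, f ν = f μ + f (T μ) + f (T (T μ)) := fun μ hμ f => by
    have h1 : μ ∉ ({T μ, T (T μ)} : Finset _) := by simp [(hTne μ hμ).symm, (hTne2 μ hμ).symm]
    have h2 : T μ ∉ ({T (T μ)} : Finset _) := by simp [(hTne (T μ) (hTne1 μ hμ)).symm]
    simp only [orb]
    rw [Finset.sum_insert h1, Finset.sum_insert h2, Finset.sum_singleton, add_assoc]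
  -- the coefficients
  choose n hn using fun (χ : IrrCharacter G) (μ : IrrCharacter S) =>
    Char.IsCharacter.classInner_nat (Char.IsCharacter.restrict (Char.IsIrrCharacter.isCharacter χ.2) S)
      (Char.IsIrrCharacter.isCharacter μ.2)
  let c : IrrCharacter G → IrrCharacter S → ℤ := fun χ μ => (n χ oneS : ℤ) - n χ μ
  have hnq : ∀ (χ : IrrCharacter G) (μ : IrrCharacter S), q * (n χ μ : ℂ) = ∑ u : S, (χ : G → ℂ) u * conj ((μ : S → ℂ) u) :=
    fun χ μ => by rw [← hn χ μ, hqdef, Char.card_mul_classInner]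
  have hn1 : ∀ χ : IrrCharacter G, q * (n χ oneS : ℂ) = ∑ u : S, (χ : G → ℂ) u := fun χ => by
    rw [hnq]; simp [oneS]
  have hc : ∀ (χ : IrrCharacter G) (μ : IrrCharacter S), q * (c χ μ : ℂ) = ∑ u : S, (χ : G → ℂ) u * (1 - conj ((μ : S → ℂ) u)) := by
    intro χ μ
    simp only [c, Int.cast_sub, Int.cast_natCast, mul_sub, hn1, hnq, mul_one, Finset.sum_sub_distrib]
  have hc0 : ∀ χ, c χ oneS = 0 := fun χ => sub_self _
  have hval : ∀ (χ : IrrCharacter G) (w : S), w ≠ 1 →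
      (χ : G → ℂ) w = -∑ μ : IrrCharacter S, (c χ μ : ℂ) * (μ : S → ℂ) w := by
    intro χ w hw
    refine mul_left_cancel₀ hq0 ?_
    rw [mul_neg, Finset.mul_sum]
    simp only [← mul_assoc, hc, Finset.sum_mul]
    rw [Finset.sum_comm, Finset.sum_eq_single w (fun u _ hu => ?_) (fun h => absurd (Finset.mem_univ _) h)]
    · simp only [mul_assoc, ← Finset.mul_sum, sub_mul, one_mul, Finset.sum_sub_distrib, hsum0 w hw]
      rw [Finset.sum_congr rfl fun μ _ => mul_comm _ _, horth, if_pos rfl]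
      ring
    · simp only [mul_assoc, ← Finset.mul_sum, sub_mul, one_mul, Finset.sum_sub_distrib, hsum0 w hw]
      rw [Finset.sum_congr rfl fun μ _ => mul_comm _ _, horth, if_neg (Ne.symm hu), sub_zero, mul_zero]
  have hcT : ∀ χ μ, c χ (T μ) = c χ μ := by
    intro χ μ
    have h : (c χ (T μ) : ℂ) = c χ μ := by
      refine mul_left_cancel₀ hq0 ?_
      rw [hc, hc]
      refine Fintype.sum_equiv σ.toEquiv _ _ fun u => ?_
      obtain ⟨g, hg⟩ := isConj_iff.1 (hconj u)
      show _ = (χ : G → ℂ) (σ u : G) * (1 - conj ((μ : S → ℂ) (σ u)))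
      rw [← hg, irr_class χ]
    exact_mod_cast h
  have hcorb : ∀ χ μ ν, ν ∈ orb μ → c χ ν = c χ μ := by
    intro χ μ ν hν
    simp only [orb, Finset.mem_insert, Finset.mem_singleton] at hν
    rcases hν with rfl | rfl | rfl
    · rfl
    · exact hcT χ μ
    · rw [hcT, hcT]
  -- the columns of the principal block
  have hcol : ∀ u w : S, u ≠ 1 → w ≠ 1 → ∑ χ ∈ B, (χ : G → ℂ) u * conj ((χ : G → ℂ) w)
      = q * ((if w = u then 1 else 0) + (if w = σ u then 1 else 0) + if w = σ (σ u) then 1 else 0) := by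
    intro u w hu hw
    have hord : ∀ t : S, ∃ j, orderOf (t : G) = 2 ^ j := fun t => by
      obtain ⟨j, -, hj⟩ := (Nat.dvd_prime_pow Nat.prime_two).1 (hq ▸ Subgroup.orderOf_dvd_natCard S t.2)
      exact ⟨j, hj⟩
    have hne1 : σ u ≠ u := fun h => hu (hfpf u h)
    have hne2 : σ (σ u) ≠ u := fun h => hne1 (by
      have h' := congrArg σ h
      rw [hcube] at h'
      exact h'.symm)
    have hne3 : σ (σ u) ≠ σ u := fun h => hne1 (σ.injective h)
    by_cases hcj : IsConj (u : G) (w : G)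
    · have hsame : ∀ χ : IrrCharacter G, (χ : G → ℂ) w = (χ : G → ℂ) u := fun χ => by
        obtain ⟨g, hg⟩ := isConj_iff.1 hcj
        rw [← hg, irr_class χ]
      have hone : ((if w = u then 1 else 0) + (if w = σ u then 1 else 0)
          + if w = σ (σ u) then 1 else 0 : ℂ) = 1 := by
        rcases hfus u w hcj with rfl | rfl | rfl
        · simp [hne1.symm, hne2.symm]
        · simp [hne1, hne3.symm]
        · simp [hne2, hne3]
      rw [hone, mul_one]
      simp only [hsame]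
      obtain ⟨hNC, hcard⟩ := hcompl u hu
      set H := Subgroup.centralizer ({(u : G)} : Set G)
      haveI := Fintype.ofFinite H
      have h := SecondMain.sum_sq_principal_of_complement hM (hord u)
        (H := H) (fun g => SecondMain.commute_iff_mem_centralizer_singleton) hNC
      rw [hcard, finsum_mem_eq_toFinset_sum, Nat.card_eq_fintype_card (α := {s : H // ¬ 2 ∣ orderOf s}),
        Fintype.card_subtype, Nat.cast_mul, mul_comm] at h
      exact mul_right_cancel₀ (Nat.cast_ne_zero.2 (Finset.card_pos.2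
        ⟨1, Finset.mem_filter.2 ⟨Finset.mem_univ _, by simp⟩⟩).ne') h
    · have hσ : ¬ w = u ∧ ¬ w = σ u ∧ ¬ w = σ (σ u) :=
        ⟨fun e => hcj (e ▸ IsConj.refl _), fun e => hcj (e ▸ hconj u),
          fun e => hcj (e ▸ (hconj u).trans (hconj (σ u)))⟩
      rw [if_neg hσ.1, if_neg hσ.2.1, if_neg hσ.2.2]
      have h := SecondMain.colSum_eq_zero hM hB0 (hord u) (hord w) (y := 1) (y' := 1) (by simp) (by simp)
        (Commute.one_right _) (Commute.one_right _) hcj
      rw [SecondMain.colSum, finsum_mem_eq_toFinset_sum] at h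
      simpa using h
  let one : IrrCharacter G := ⟨1, Char.isIrrCharacter_one⟩
  have honeB : one ∈ B := Set.mem_toFinset.2 (sameBlock_refl hM _)
  set S0 := B.erase one
  set L := (Finset.univ : Finset (IrrCharacter S)).erase oneS
  have hL : ∀ μ, μ ∈ L ↔ μ ≠ oneS := fun μ => by simp [L]
  have hcone : ∀ μ ∈ L, c one μ = 1 := by
    intro μ hμ
    have h : (c one μ : ℂ) = 1 := by
      refine mul_left_cancel₀ hq0 ?_
      rw [hc]
      simp only [one, Pi.one_apply, one_mul, Finset.sum_sub_distrib, Finset.sum_const, Finset.card_univ,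
        nsmul_eq_mul, mul_one, ← map_sum, hrow0 μ ((hL μ).1 hμ), map_zero, sub_zero]
      rw [hqdef, Nat.card_eq_fintype_card]
    exact_mod_cast h
  have hgram : ∀ μ ∈ L, ∀ ν ∈ L,
      ∑ χ ∈ S0, c χ μ * c χ ν = if ν ∈ orb μ then 3 else 2 := by
    intro μ hμ ν hν
    have hμ1 := (hL μ).1 hμ
    have hν1 := (hL ν).1 hν
    have hC : ∀ a : ℤ, conj (a : ℂ) = (a : ℂ) := fun a => map_intCast _ a
    have h1 : q * q * ∑ χ ∈ B, (c χ μ : ℂ) * (c χ ν : ℂ)
        = q * (3 * q + if ν ∈ orb μ then q else 0) := by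
      rw [Finset.mul_sum]
      have e : ∀ χ : IrrCharacter G, q * q * ((c χ μ : ℂ) * (c χ ν : ℂ))
          = (∑ u : S, (χ : G → ℂ) u * (1 - conj ((μ : S → ℂ) u))) *
            conj (∑ w : S, (χ : G → ℂ) w * (1 - conj ((ν : S → ℂ) w))) := fun χ => by
        rw [← hc, ← hc, map_mul, hC, show conj q = q from map_natCast _ _]
        ring
      simp only [e, map_sum, map_mul, map_sub, map_one, Complex.conj_conj, Finset.sum_mul_sum]
      rw [Finset.sum_comm]
      simp only [Finset.sum_comm (s := B)]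
      have e2 : ∀ u w : S, ∑ χ ∈ B, (χ : G → ℂ) u * (1 - conj ((μ : S → ℂ) u)) *
            (conj ((χ : G → ℂ) w) * (1 - (ν : S → ℂ) w))
          = (1 - conj ((μ : S → ℂ) u)) * (q * ((if w = u then (1 - (ν : S → ℂ) w) else 0) +
              (if w = σ u then (1 - (ν : S → ℂ) w) else 0) +
              if w = σ (σ u) then (1 - (ν : S → ℂ) w) else 0)) := by
        intro u w
        by_cases hu : u = 1
        · subst hu; simp [hdeg]
        by_cases hw : w = 1
        · subst hw; simp [hdeg]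
        refine (Finset.sum_congr rfl (g := fun χ : IrrCharacter G => ((χ : G → ℂ) u * conj ((χ : G → ℂ) w)) *
          ((1 - conj ((μ : S → ℂ) u)) * (1 - (ν : S → ℂ) w))) fun χ _ => by ring).trans ?_
        rw [← Finset.sum_mul, hcol u w hu hw]
        split_ifs <;> ring
      simp only [e2, ← Finset.mul_sum, Finset.sum_add_distrib, Finset.sum_ite_eq', Finset.mem_univ, if_true]
      have hν2 : ν ∈ orb μ ↔ ν = μ ∨ T ν = μ ∨ T (T ν) = μ := by
        simp only [orb, Finset.mem_insert, Finset.mem_singleton]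
        constructor
        · rintro (rfl | rfl | rfl)
          · exact Or.inl rfl
          · exact Or.inr (Or.inr (hT3 μ))
          · exact Or.inr (Or.inl (hT3 μ))
        · rintro (rfl | rfl | rfl)
          · exact Or.inl rfl
          · exact Or.inr (Or.inr (hT3 ν).symm)
          · exact Or.inr (Or.inl (hT3 ν).symm)
      have e3 : ∀ u : S, (1 - conj ((μ : S → ℂ) u)) * (q * ((1 - (ν : S → ℂ) u) + (1 - (ν : S → ℂ) (σ u))
            + (1 - (ν : S → ℂ) (σ (σ u)))))
          = q * (3 - 3 * conj ((μ : S → ℂ) u)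
              - ((ν : S → ℂ) u + (T ν : S → ℂ) u + (T (T ν) : S → ℂ) u)
              + ((ν : S → ℂ) u * conj ((μ : S → ℂ) u) + (T ν : S → ℂ) u * conj ((μ : S → ℂ) u)
                + (T (T ν) : S → ℂ) u * conj ((μ : S → ℂ) u))) := fun u => by
        simp only [T]; ring
      simp only [e3, ← Finset.mul_sum, Finset.sum_add_distrib, Finset.sum_sub_distrib, Finset.sum_const,
        Finset.card_univ, nsmul_eq_mul, ← map_sum, hrow0 μ hμ1, hrow0 ν hν1, hrow0 _ (hTne1 ν hν1),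
        hrow0 _ (hTne1 _ (hTne1 ν hν1)), hrow, map_zero, mul_zero, sub_zero, add_zero]
      congr 1
      rw [show (Fintype.card S : ℂ) = q by rw [hqdef, Nat.card_eq_fintype_card], mul_comm q 3]
      congr 1
      have d1 : ν = μ → T ν ≠ μ ∧ T (T ν) ≠ μ := fun e => by
        subst e; exact ⟨hTne ν hν1, hTne2 ν hν1⟩
      have d2 : T ν = μ → T (T ν) ≠ μ := fun e h => hTne _ (hTne1 ν hν1) (h.trans e.symm)
      by_cases a1 : ν = μ
      · rw [if_pos a1, if_neg (d1 a1).1, if_neg (d1 a1).2, if_pos (hν2.2 (Or.inl a1)), add_zero, add_zero]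
      by_cases a2 : T ν = μ
      · rw [if_neg a1, if_pos a2, if_neg (d2 a2), if_pos (hν2.2 (Or.inr (Or.inl a2))), zero_add, add_zero]
      by_cases a3 : T (T ν) = μ
      · rw [if_neg a1, if_neg a2, if_pos a3, if_pos (hν2.2 (Or.inr (Or.inr a3))), zero_add, zero_add]
      · rw [if_neg a1, if_neg a2, if_neg a3, if_neg (by tauto), add_zero, add_zero]
    have h2 : ∑ χ ∈ B, (c χ μ : ℂ) * (c χ ν : ℂ) = 3 + if ν ∈ orb μ then 1 else 0 := by
      refine mul_left_cancel₀ (mul_ne_zero hq0 hq0) (h1.trans ?_)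
      split_ifs <;> ring
    have h3 : ∑ χ ∈ B, c χ μ * c χ ν = 3 + if ν ∈ orb μ then 1 else 0 := by
      split_ifs with h <;> (simp only [h, if_true, if_false] at h2; exact_mod_cast h2)
    rw [← Finset.add_sum_erase B _ honeB, hcone μ hμ, hcone ν hν] at h3
    split_ifs at h3 ⊢ <;> linarith
  have horb_self : ∀ μ, μ ∈ orb μ := fun μ => by simp [orb]
  have hnorm : ∀ μ ∈ L, ∑ χ ∈ S0, c χ μ * c χ μ = 3 := fun μ hμ => by
    rw [hgram μ hμ μ hμ, if_pos (horb_self μ)]
  let A : IrrCharacter S → Finset (IrrCharacter G × ℤ) := fun μ => signedSupp S0 fun χ => c χ μ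
  have hA : ∀ μ ∈ L, ∀ ν ∈ L, A ν = A μ ↔ ν ∈ orb μ := by
    intro μ hμ ν hν
    constructor
    · intro h
      by_contra hno
      have h2 := (signed_inter (hnorm μ hμ) (hnorm ν hν) (by rw [hgram μ hμ ν hν, if_neg hno])).1
      change (A μ ∩ A ν).card = 2 at h2
      rw [h, Finset.inter_self, card_signedSupp (hnorm μ hμ)] at h2
      omega
    · intro h
      simp only [A, hcorb _ μ ν h]
  have hinter : ∀ μ ∈ L, ∀ ν ∈ L, ν ∉ orb μ → (A μ ∩ A ν).card = 2 := fun μ hμ ν hν hno =>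
    (signed_inter (hnorm μ hμ) (hnorm ν hν) (by rw [hgram μ hμ ν hν, if_neg hno])).1
  set F := L.image A
  have hF : 3 * F.card + 1 = 2 ^ k := by
    have h1 : L.card = ∑ X ∈ F, (L.filter fun μ => A μ = X).card := Finset.card_eq_sum_card_image A L
    have h2 : ∀ X ∈ F, (L.filter fun μ => A μ = X).card = 3 := by
      intro X hX
      obtain ⟨μ, hμ, rfl⟩ := Finset.mem_image.1 hX
      rw [← horb_card μ ((hL μ).1 hμ)]
      congr 1
      ext ν
      rw [Finset.mem_filter]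
      refine ⟨fun h => (hA μ hμ ν h.1).1 h.2, fun h => ?_⟩
      have hν : ν ∈ L := (hL ν).2 (by
        simp only [orb, Finset.mem_insert, Finset.mem_singleton] at h
        rcases h with rfl | rfl | rfl
        · exact (hL _).1 hμ
        · exact hTne1 _ ((hL _).1 hμ)
        · exact hTne1 _ (hTne1 _ ((hL _).1 hμ)))
      exact ⟨hν, (hA μ hμ ν hν).2 h⟩
    rw [Finset.sum_congr rfl h2, Finset.sum_const, smul_eq_mul, Finset.card_erase_of_mem (Finset.mem_univ _),
      Finset.card_univ, ← Nat.card_eq_fintype_card, Char.card_irr_eq_card_conjClasses,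
      Char.card_conjClasses_of_comm hcomm, hq] at h1
    have := Nat.one_le_two_pow (n := k)
    omega
  have hF5 : 5 ≤ F.card := by
    have := Nat.pow_le_pow_right (show 0 < 2 by norm_num) hk
    omega
  obtain ⟨Tp, hTp2, hTp⟩ := sunflower (F := F)
    (fun X hX => by obtain ⟨μ, hμ, rfl⟩ := Finset.mem_image.1 hX; exact card_signedSupp (hnorm μ hμ))
    (fun X hX Y hY hne => by
      obtain ⟨μ, hμ, rfl⟩ := Finset.mem_image.1 hX
      obtain ⟨ν, hν, rfl⟩ := Finset.mem_image.1 hY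
      exact hinter μ hμ ν hν fun h => hne ((hA μ hμ ν hν).2 h).symm) hF5
  obtain ⟨⟨a, εa⟩, ⟨b, εb⟩, hpab, hTpeq⟩ := Finset.card_eq_two.1 hTp2
  obtain ⟨X₁, hX₁⟩ := Finset.card_pos.1 (show 0 < F.card by omega)
  obtain ⟨μ₁, hμ₁, rfl⟩ := Finset.mem_image.1 hX₁
  have hmem : ∀ μ ∈ L, (a ∈ S0 ∧ εa ≠ 0 ∧ c a μ = εa) ∧ (b ∈ S0 ∧ εb ≠ 0 ∧ c b μ = εb) := by
    intro μ hμ
    have h := hTp _ (Finset.mem_image_of_mem A hμ)
    rw [hTpeq] at h
    exact ⟨mem_signedSupp.1 (h (Finset.mem_insert_self _ _)),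
      mem_signedSupp.1 (h (Finset.mem_insert_of_mem (Finset.mem_singleton_self _)))⟩
  obtain ⟨⟨haS, hεa0, hca₁⟩, hbS, hεb0, hcb₁⟩ := hmem μ₁ hμ₁
  have hab : a ≠ b := fun h => hpab (Prod.ext h (by rw [← hca₁, ← hcb₁, h]))
  have hεa : εa = 1 ∨ εa = -1 := by
    have := unit_of_norm_three (hnorm μ₁ hμ₁) haS; rw [hca₁] at this; omega
  have hεb : εb = 1 ∨ εb = -1 := by
    have := unit_of_norm_three (hnorm μ₁ hμ₁) hbS; rw [hcb₁] at this; omega
  set R := (S0.erase a).erase b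
  have hbSa : b ∈ S0.erase a := Finset.mem_erase.2 ⟨hab.symm, hbS⟩
  have hR : ∀ {M' : Type} [AddCommMonoid M'] (f : IrrCharacter G → M'),
      ∑ χ ∈ B, f χ = f one + (f a + (f b + ∑ χ ∈ R, f χ)) := fun {M'} _ f => by
    rw [← Finset.add_sum_erase B f honeB, ← Finset.add_sum_erase S0 f haS,
      ← Finset.add_sum_erase _ f hbSa]
  have hRsq : ∀ μ ∈ L, ∑ χ ∈ R, c χ μ * c χ μ = 1 := by
    intro μ hμ
    have h := hnorm μ hμ
    rw [← Finset.add_sum_erase S0 _ haS, ← Finset.add_sum_erase _ _ hbSa, (hmem μ hμ).1.2.2,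
      (hmem μ hμ).2.2.2] at h
    rcases hεa with e | e <;> rcases hεb with f | f <;> subst e <;> subst f <;> linarith
  have hsupp : ∀ χ ∈ R, ∀ μ ∈ L, c χ μ ≠ 0 →
      ∀ ν : IrrCharacter S, c χ ν = if ν ∈ orb μ then c χ μ else 0 := by
    intro χ hχ μ hμ hne ν
    split_ifs with h
    · exact hcorb χ μ ν h
    by_contra hν0
    have hν : ν ∈ L := (hL ν).2 fun e => hν0 (e ▸ hc0 χ)
    obtain ⟨hχb, hχ'⟩ := Finset.mem_erase.1 hχ
    obtain ⟨hχa, hχS⟩ := Finset.mem_erase.1 hχ'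
    obtain ⟨hcard2, hsame⟩ :=
      signed_inter (hnorm μ hμ) (hnorm ν hν) (by rw [hgram μ hμ ν hν, if_neg h])
    change (A μ ∩ A ν).card = 2 at hcard2
    have heq : Tp = A μ ∩ A ν := Finset.eq_of_subset_of_card_le
      (Finset.subset_inter (hTp _ (Finset.mem_image_of_mem A hμ)) (hTp _ (Finset.mem_image_of_mem A hν)))
      (le_of_eq (by rw [hcard2, hTp2]))
    have hin : (χ, c χ μ) ∈ Tp := by
      rw [heq]
      exact Finset.mem_inter.2 ⟨mem_signedSupp.2 ⟨hχS, hne, rfl⟩,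
        mem_signedSupp.2 ⟨hχS, hne, (hsame χ hχS hne hν0).symm⟩⟩
    rw [hTpeq, Finset.mem_insert, Finset.mem_singleton] at hin
    rcases hin with e | e
    · exact hχa (congrArg Prod.fst e)
    · exact hχb (congrArg Prod.fst e)
  -- degrees
  let d : IrrCharacter G → ℤ := fun χ => (charDegree (χ : G → ℂ) : ℤ)
  have hd : ∀ χ : IrrCharacter G, (χ : G → ℂ) 1 = (d χ : ℂ) := fun χ => by simp [d, charDegree_cast]
  have hdpos : ∀ χ : IrrCharacter G, 0 < d χ := fun χ => Int.ofNat_lt.2 (charDegree_pos χ)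
  have hdeg0 : ∀ μ ∈ L, ∑ χ ∈ B, c χ μ * d χ = 0 := by
    intro μ hμ
    have h : (∑ χ ∈ B, (c χ μ : ℂ) * (d χ : ℂ)) = 0 := by
      refine (mul_eq_zero.1 (?_ : q * _ = 0)).resolve_left hq0
      simp only [Finset.mul_sum, ← mul_assoc, hc, Finset.sum_mul]
      rw [Finset.sum_comm]
      refine Finset.sum_eq_zero fun u _ => ?_
      by_cases hu : u = 1
      · subst hu; simp [hdeg]
      obtain ⟨j, -, hj⟩ := (Nat.dvd_prime_pow Nat.prime_two).1 (hq ▸ Subgroup.orderOf_dvd_natCard S u.2)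
      have hnc : ¬ IsConj (u : G) 1 := fun e => hu (Subtype.ext (isConj_one_left.1 e))
      have h0 := SecondMain.colSum_eq_zero hM hB0 ⟨j, hj⟩ ⟨0, by simp⟩ (y := 1) (y' := 1) (x' := 1)
        (by simp) (by simp) (Commute.one_right _) (Commute.one_right _) hnc
      rw [SecondMain.colSum, finsum_mem_eq_toFinset_sum] at h0
      simp only [mul_one, hd, map_intCast] at h0
      rw [← mul_zero (1 - conj ((μ : S → ℂ) u)), ← h0, Finset.mul_sum]
      exact Finset.sum_congr rfl fun χ _ => by ring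
    exact_mod_cast h
  have hone1 : d one = 1 := by
    have h := hd one
    simp only [one, Pi.one_apply] at h
    exact_mod_cast h.symm
  set A' : ℤ := εa * d a with hA'
  set B' : ℤ := εb * d b with hB'
  have hRdeg : ∀ χ ∈ R, ∀ μ ∈ L, c χ μ ≠ 0 → c χ μ * c χ μ = 1 ∧ c χ μ * d χ = -(1 + A' + B') := by
    intro χ hχ μ hμ hne
    have h1 := hRsq μ hμ
    rw [← Finset.add_sum_erase R _ hχ] at h1
    have hnn : ∀ ψ ∈ R.erase χ, 0 ≤ c ψ μ * c ψ μ := fun ψ _ => mul_self_nonneg _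
    have h2 : 0 < c χ μ * c χ μ := mul_self_pos.2 hne
    have h3 : 0 ≤ ∑ ψ ∈ R.erase χ, c ψ μ * c ψ μ := Finset.sum_nonneg hnn
    have hsq : c χ μ * c χ μ = 1 := by omega
    have hz0 : ∀ ψ ∈ R.erase χ, c ψ μ = 0 := fun ψ hψ =>
      mul_self_eq_zero.1 ((Finset.sum_eq_zero_iff_of_nonneg hnn).1 (by omega) ψ hψ)
    refine ⟨hsq, ?_⟩
    have h4 := hdeg0 μ hμ
    rw [hR, hcone μ hμ, (hmem μ hμ).1.2.2, (hmem μ hμ).2.2.2, ← Finset.add_sum_erase R _ hχ,
      Finset.sum_eq_zero (fun ψ hψ => by rw [hz0 ψ hψ, zero_mul]), hone1] at h4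
    rw [hA', hB']
    linarith
  have hE : 1 + A' + B' ≠ 0 := by
    obtain ⟨χ, hχ, hne⟩ : ∃ χ ∈ R, c χ μ₁ ≠ 0 := by
      by_contra h
      push Not at h
      have h1 := hRsq μ₁ hμ₁
      rw [Finset.sum_eq_zero (fun χ hχ => by rw [h χ hχ, zero_mul])] at h1
      omega
    intro h0
    have h1 := (hRdeg χ hχ μ₁ hμ₁ hne).2
    rw [h0, neg_zero, mul_eq_zero] at h1
    exact h1.elim hne (hdpos χ).ne'
  -- the values of `a` and `b`
  have hconst : ∀ (x : IrrCharacter G) (ε : ℤ), (∀ μ ∈ L, c x μ = ε) → ∀ w : S, w ≠ 1 →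
      (x : G → ℂ) w = (ε : ℂ) := by
    intro x ε hx w hw
    rw [hval x w hw, ← Finset.add_sum_erase _ _ (Finset.mem_univ oneS), hc0,
      Finset.sum_congr rfl fun μ hμ => by rw [hx μ hμ], ← Finset.mul_sum]
    have h := hsum0 w hw
    rw [← Finset.add_sum_erase _ _ (Finset.mem_univ oneS)] at h
    simp only [oneS, Pi.one_apply] at h
    rw [Int.cast_zero, zero_mul, zero_add, eq_neg_of_add_eq_zero_right h, mul_neg, mul_one, neg_neg]
  have hva := hconst a εa fun μ hμ => (hmem μ hμ).1.2.2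
  have hvb := hconst b εb fun μ hμ => (hmem μ hμ).2.2.2
  have hcong : ∀ (x : IrrCharacter G) (ε : ℤ), (ε = 1 ∨ ε = -1) →
      (∀ w : S, w ≠ 1 → (x : G → ℂ) w = (ε : ℂ)) → (16 : ℤ) ∣ ε * d x - 1 := by
    intro x ε hε hx
    have h : q * (n x oneS : ℂ) = (d x : ℂ) + (q - 1) * (ε : ℂ) := by
      rw [hn1, ← Finset.add_sum_erase _ _ (Finset.mem_univ (1 : S)), Subgroup.coe_one, hd,
        Finset.sum_congr rfl fun w hw => hx w (Finset.mem_erase.1 hw).1, Finset.sum_const,
        Finset.card_erase_of_mem (Finset.mem_univ _), Finset.card_univ, nsmul_eq_mul,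
        Nat.cast_sub Fintype.card_pos, hqdef, Nat.card_eq_fintype_card, Nat.cast_one]
    rw [hqdef, hq] at h
    have h' : (2 : ℤ) ^ k * (n x oneS : ℤ) = d x + ((2 : ℤ) ^ k - 1) * ε := by exact_mod_cast h
    have h16 : (16 : ℤ) ∣ 2 ^ k := by
      have := pow_dvd_pow (2 : ℤ) hk; norm_num at this ⊢; exact this
    have : ε * d x - 1 = 2 ^ k * (ε * ((n x oneS : ℤ) - ε)) := by
      rcases hε with rfl | rfl <;> linarith
    rw [this]
    exact h16.mul_right _
  -- involutions times involutions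
  have hz1 : z ≠ 1 := fun h => by rw [h, Subgroup.coe_one, orderOf_one] at hz; omega
  have hu1 : u₀ ≠ 1 := fun h => hu₀ (by rw [h, one_mul])
  have hzz : z * z = 1 := Subtype.ext (by
    rw [Subgroup.coe_mul, Subgroup.coe_one, ← pow_two, ← hz, pow_orderOf_eq_one])
  choose zi hzi using fun χ : IrrCharacter G => SecondMain.exists_int_involution hz χ
  let aχ : IrrCharacter G → ℂ := fun χ => (χ : G → ℂ) z * (χ : G → ℂ) z / (χ : G → ℂ) 1
  let ϑ : G → ℂ := ∑ χ : IrrCharacter G, aχ χ • (χ : G → ℂ)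
  have hW : ∑ χ ∈ B, aχ χ * (χ : G → ℂ) u₀ = 0 := by
    set H := Subgroup.centralizer ({(u₀ : G)} : Set G)
    have hH : ∀ g, g ∈ H ↔ Commute (u₀ : G) g := fun g =>
      SecondMain.commute_iff_mem_centralizer_singleton
    obtain ⟨j, -, hj⟩ := (Nat.dvd_prime_pow Nat.prime_two).1 (hq ▸ Subgroup.orderOf_dvd_natCard S u₀.2)
    have hϑ : IsClassFunction G ϑ :=
      Char.isClassFunction_sum _ fun χ _ => Char.isClassFunction_smul (irr_class χ) _
    have hreg : ∀ m : H, ¬ 2 ∣ orderOf m → ϑ ((u₀ : G) * m) = 0 := by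
      intro m hm
      have h := Char.class_mult_formula (G := G) (z : G) (z : G) ((u₀ : G) * m)
      have h0 : Nat.card {p : G × G // IsConj (z : G) p.1 ∧ IsConj (z : G) p.2 ∧
          p.1 * p.2 = (u₀ : G) * m} = 0 := by
        refine Nat.card_eq_zero.2 (Or.inl ⟨?_⟩)
        rintro ⟨⟨x, y⟩, hx, hy, hxy⟩
        obtain ⟨g, hg⟩ := isConj_iff.1 hx
        obtain ⟨g', hg'⟩ := isConj_iff.1 hy
        dsimp only at hg hg' hxy
        refine hprod x y m (by rw [← hg, SecondMain.orderOf_conj, hz])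
          (by rw [← hg', SecondMain.orderOf_conj, hz]) ((hH m).1 m.2) (by rwa [Subgroup.orderOf_coe]) hxy
      rw [h0, Nat.cast_zero, eq_comm, mul_eq_zero] at h
      have hne : Nat.card {x : G // IsConj (z : G) x} ≠ 0 :=
        (Nat.card_pos_iff.2 ⟨⟨⟨z, IsConj.refl _⟩⟩, inferInstance⟩).ne'
      have h' := congrArg conj (h.resolve_left (div_ne_zero (mul_ne_zero (Nat.cast_ne_zero.2 hne)
        (Nat.cast_ne_zero.2 hne)) (Nat.cast_ne_zero.2 Nat.card_pos.ne')))
      simp only [map_sum, map_div₀, map_mul, Complex.conj_conj, hzi, map_intCast, hd, map_zero] at h'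
      simp only [ϑ, Finset.sum_apply, Pi.smul_apply, smul_eq_mul, aχ, hzi, hd]
      rw [← h']
      exact Finset.sum_congr rfl fun χ _ => by ring
    have h := SecondMain.blockPart_eq_sum_induced hM ⟨j, hj⟩ hH hB0 hϑ (s := (1 : H)) (by simp)
    rw [finsum_mem_of_eqOn_zero fun b hb => ?_] at h
    · rw [Subgroup.coe_one, mul_one, SecondMain.blockPart_apply, finsum_mem_eq_toFinset_sum] at h
      rw [← h]
      exact Finset.sum_congr rfl fun χ _ => by
        rw [Char.classInner_sum_smul _ _ χ (Finset.mem_univ χ)]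
    · show blockPart b (fun c : H => ϑ ((u₀ : G) * (c : G))) (1 : H) = 0
      rw [SecondMain.blockPart_congr_regular hM hb.1 (θ' := 0) hreg (by simp), SecondMain.blockPart_zero]
  let f : IrrCharacter S → ℂ := fun μ =>
    (μ : S → ℂ) u₀ * (3 + 2 * ((μ : S → ℂ) z + (μ : S → ℂ) (σ z) + (μ : S → ℂ) (σ (σ z))))
  have hfsum : ∑ μ ∈ L, f μ = -9 := by
    have hσz : ∀ w : S, w * w = 1 → ∑ μ : IrrCharacter S, (μ : S → ℂ) u₀ * (μ : S → ℂ) w = 0 := by
      intro w hw
      simp only [← irr_mul hcomm]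
      refine hsum0 _ fun h => hu₀ ?_
      rw [eq_inv_of_mul_eq_one_left h, ← mul_inv_rev, hw, inv_one]
    have h : ∑ μ : IrrCharacter S, f μ = 0 := by
      have e : ∀ μ : IrrCharacter S, f μ = 3 * (μ : S → ℂ) u₀ + 2 * ((μ : S → ℂ) u₀ * (μ : S → ℂ) z
          + (μ : S → ℂ) u₀ * (μ : S → ℂ) (σ z) + (μ : S → ℂ) u₀ * (μ : S → ℂ) (σ (σ z))) := fun μ => by
        simp only [f]; ring
      simp only [e, Finset.sum_add_distrib, ← Finset.mul_sum, hsum0 u₀ hu1, hσz z hzz,
        hσz (σ z) (by rw [← map_mul, hzz, map_one]),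
        hσz (σ (σ z)) (by rw [← map_mul, ← map_mul, hzz, map_one, map_one]), mul_zero, add_zero]
    rw [← Finset.add_sum_erase _ _ (Finset.mem_univ oneS)] at h
    simp only [f, oneS, Pi.one_apply] at h ⊢
    linear_combination h
  have hterm : ∀ χ ∈ R, ((1 + A' + B' : ℤ) : ℂ) * (aχ χ * (χ : G → ℂ) u₀)
      = ∑ μ ∈ L, ((c χ μ * c χ μ : ℤ) : ℂ) * f μ := by
    intro χ hχ
    by_cases hall : ∀ μ ∈ L, c χ μ = 0
    · have hv : (χ : G → ℂ) u₀ = 0 := by
        rw [hval χ u₀ hu1, neg_eq_zero]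
        refine Finset.sum_eq_zero fun μ _ => ?_
        by_cases hμ : μ ∈ L
        · rw [hall μ hμ, Int.cast_zero, zero_mul]
        · rw [show μ = oneS by simpa [L] using hμ, hc0, Int.cast_zero, zero_mul]
      rw [hv, mul_zero, mul_zero, Finset.sum_eq_zero fun μ hμ => by rw [hall μ hμ]; simp]
    push Not at hall
    obtain ⟨μ, hμ, hne⟩ := hall
    obtain ⟨hε2, hεd⟩ := hRdeg χ hχ μ hμ hne
    have hμ1 := (hL μ).1 hμ
    have hs := hsupp χ hχ μ hμ hne
    have horbL : orb μ ⊆ L := fun ν hν => (hL ν).2 fun e => hne (by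
      rw [← hcorb χ μ ν hν, e, hc0])
    set ε := c χ μ
    have hO : ∀ w : S, w ≠ 1 → (χ : G → ℂ) w =
        -((ε : ℂ) * ((μ : S → ℂ) w + (μ : S → ℂ) (σ w) + (μ : S → ℂ) (σ (σ w)))) := by
      intro w hw
      rw [hval χ w hw]
      simp only [hs, Int.cast_ite, Int.cast_zero, ite_mul, zero_mul, Finset.sum_ite_mem, Finset.univ_inter,
        horb_sum μ hμ1, T]
      ring
    have hRHS : ∑ ν ∈ L, ((c χ ν * c χ ν : ℤ) : ℂ) * f ν
        = ((μ : S → ℂ) u₀ + (μ : S → ℂ) (σ u₀) + (μ : S → ℂ) (σ (σ u₀))) *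
          (3 + 2 * ((μ : S → ℂ) z + (μ : S → ℂ) (σ z) + (μ : S → ℂ) (σ (σ z)))) := by
      rw [← Finset.sum_subset horbL fun ν _ hν => by rw [hs ν, if_neg hν]; simp,
        Finset.sum_congr rfl fun ν hν => by rw [hcorb χ μ ν hν, hε2, Int.cast_one, one_mul],
        horb_sum μ hμ1]
      simp only [T, hcube]
      ring
    rw [hRHS]
    simp only [aχ, hd, hO u₀ hu1, hO z hz1]
    have hσσz : σ (σ z) = z * σ z := by
      have h := hprod1 z
      rw [eq_inv_of_mul_eq_one_right h, mul_inv_rev, inv_eq_of_mul_eq_one_right hzz,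
        inv_eq_of_mul_eq_one_right (show σ z * σ z = 1 by rw [← map_mul, hzz, map_one]), hcomm]
    rw [hσσz, irr_mul hcomm]
    have hx : (μ : S → ℂ) z * (μ : S → ℂ) z = 1 := by rw [← irr_mul hcomm, hzz, hdeg]
    have hy : (μ : S → ℂ) (σ z) * (μ : S → ℂ) (σ z) = 1 := by
      rw [← irr_mul hcomm, ← map_mul, hzz, map_one, hdeg]
    set x := (μ : S → ℂ) z
    set y := (μ : S → ℂ) (σ z)
    have hO2 : (x + y + x * y) * (x + y + x * y) = 3 + 2 * (x + y + x * y) := by
      linear_combination (1 + y * y + 2 * y) * hx + (2 + 2 * x) * hy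
    have hεd' : (ε : ℂ) * (d χ : ℂ) = -((1 + A' + B' : ℤ) : ℂ) := by exact_mod_cast hεd
    have hε2' : (ε : ℂ) * (ε : ℂ) = 1 := by exact_mod_cast hε2
    have hdc : (d χ : ℂ) ≠ 0 := Int.cast_ne_zero.2 (hdpos χ).ne'
    rw [← hO2, eq_comm]
    field_simp
    have hE' : ((1 + A' + B' : ℤ) : ℂ) = -((ε : ℂ) * (d χ : ℂ)) := by rw [hεd', neg_neg]
    rw [hE']
    linear_combination (-(x + y + x * y) * (x + y + x * y) *
      ((μ : S → ℂ) u₀ + (μ : S → ℂ) (σ u₀) + (μ : S → ℂ) (σ (σ u₀))) * (d χ : ℂ) *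
        ((ε : ℂ) * (ε : ℂ) + 1)) * hε2'
  have hRtot : ((1 + A' + B' : ℤ) : ℂ) * ∑ χ ∈ R, aχ χ * (χ : G → ℂ) u₀ = -9 := by
    rw [Finset.mul_sum, Finset.sum_congr rfl hterm, Finset.sum_comm,
      Finset.sum_congr rfl fun μ hμ => by rw [← Finset.sum_mul, ← Int.cast_sum, hRsq μ hμ, Int.cast_one, one_mul],
      hfsum]
  have hfix : ∀ (x : IrrCharacter G) (ε : ℤ), (ε = 1 ∨ ε = -1) →
      (∀ w : S, w ≠ 1 → (x : G → ℂ) w = (ε : ℂ)) →
      ((ε * d x : ℤ) : ℂ) * (aχ x * (x : G → ℂ) u₀) = 1 := by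
    intro x ε hε hx
    simp only [aχ, hx z hz1, hx u₀ hu1, hd]
    have : (d x : ℂ) ≠ 0 := Int.cast_ne_zero.2 (hdpos x).ne'
    rcases hε with rfl | rfl <;> push_cast <;> field_simp
  have hA1 : A' = 1 := by
    refine eq_one_of_degree_equation (hcong a εa hεa hva) (hcong b εb hεb hvb) ?_
    rw [hR] at hW
    have h1 : aχ one * (one : G → ℂ) u₀ = 1 := by simp [aχ, one]
    rw [h1] at hW
    have hWa := hfix a εa hεa hva
    have hWb := hfix b εb hεb hvb
    rw [← hA'] at hWa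
    rw [← hB'] at hWb
    have : ((A' * B' + A' + B') * (1 + A' + B') : ℂ) = 9 * A' * B' := by
      push_cast at hRtot
      linear_combination ((A' : ℂ) * (B' : ℂ) * (1 + A' + B')) * hW
        - ((B' : ℂ) * (1 + A' + B')) * hWa - ((A' : ℂ) * (1 + A' + B')) * hWb
        - ((A' : ℂ) * (B' : ℂ)) * hRtot
    exact_mod_cast this
  have hda : d a = 1 ∧ εa = 1 := by
    have := hdpos a
    rcases hεa with e | e <;> rw [hA', e] at hA1 <;> omega
  obtain ⟨l, hl⟩ := Char.exists_hom_of_degree_one (Char.IsIrrCharacter.isCharacter a.2)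
    (by rw [hd, hda.1, Int.cast_one])
  refine ⟨l, fun h => (Finset.mem_erase.1 haS).1 (Subtype.ext ?_), fun u hu => ?_⟩
  · show (a : G → ℂ) = 1
    rw [← hl, h]; rfl
  · by_cases hu1' : u = 1
    · rw [hu1', map_one]
    · have := hva ⟨u, hu⟩ fun e => hu1' (congrArg Subtype.val e)
      rw [hda.2, Int.cast_one] at this
      rw [congrFun hl u]
      exact this

end Cfsg.Agent.BrauerHomo
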