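import Mathlib
import Cfsg.Agent.EqLemmas

/-!
# Integer vectors of norm three with pairwise inner product two, and an equation between degrees

`sunflower`: at least five three-element sets meeting pairwise in two elements contain a common pair.
`signed_inter` translates the inner products into intersections of signed supports.
`eq_one_of_degree_equation` is the arithmetic at the end of Brauer's argument for homocyclic Sylow 2-subgroups.
-/

set_option autoImplicit false

namespace Cfsg.Agent.BrauerHomo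

open Finset

theorem sunflower {α : Type*} [DecidableEq α] {F : Finset (Finset α)} (h3 : ∀ A ∈ F, A.card = 3)
    (h2 : ∀ A ∈ F, ∀ B ∈ F, A ≠ B → (A ∩ B).card = 2) (h5 : 5 ≤ F.card) :
    ∃ T : Finset α, T.card = 2 ∧ ∀ A ∈ F, T ⊆ A := by
  obtain ⟨A, hA, B, hB, hAB⟩ := Finset.one_lt_card.1 (show 1 < F.card by omega)
  have hT : (A ∩ B).card = 2 := h2 A hA B hB hAB
  have hU : (A ∪ B).card = 4 := by
    have := Finset.card_union_add_card_inter A B
    have := h3 A hA; have := h3 B hB
    omega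
  obtain ⟨C, hC, hCU⟩ : ∃ C ∈ F, ¬ C ⊆ A ∪ B := by
    by_contra h
    push Not at h
    have hle := Finset.card_le_card
      (show F ⊆ (A ∪ B).powersetCard 3 from fun D hD => Finset.mem_powersetCard.2 ⟨h D hD, h3 D hD⟩)
    rw [Finset.card_powersetCard, hU] at hle
    norm_num [Nat.choose] at hle
    omega
  have hout : ∀ D ∈ F, ¬ D ⊆ A ∪ B → A ∩ B ⊆ D ∧ D ∩ (A ∪ B) = A ∩ B := by
    intro D hD hDU
    have hDA : D ≠ A := fun e => hDU (e ▸ Finset.subset_union_left)
    have hDB : D ≠ B := fun e => hDU (e ▸ Finset.subset_union_right)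
    have h1 := Finset.card_union_add_card_inter (D ∩ A) (D ∩ B)
    rw [← Finset.inter_union_distrib_left, ← Finset.inter_inter_distrib_left, h2 D hD A hA hDA,
      h2 D hD B hB hDB] at h1
    have hlt : (D ∩ (A ∪ B)).card < 3 := h3 D hD ▸ Finset.card_lt_card
      ⟨Finset.inter_subset_left, fun h => hDU fun x hx => (Finset.mem_inter.1 (h hx)).2⟩
    have hle : (D ∩ (A ∩ B)).card ≤ 2 := hT ▸ Finset.card_le_card Finset.inter_subset_right
    have hsub : A ∩ B ⊆ D := Finset.inter_eq_right.1 (Finset.eq_of_subset_of_card_le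
      Finset.inter_subset_right (by omega))
    refine ⟨hsub, (Finset.eq_of_subset_of_card_le (fun x hx => ?_) (by omega)).symm⟩
    exact Finset.mem_inter.2 ⟨hsub hx, Finset.inter_subset_union hx⟩
  refine ⟨A ∩ B, hT, fun D hD => ?_⟩
  by_cases hDU : D ⊆ A ∪ B
  · have hCD : C ≠ D := fun e => hCU (e ▸ hDU)
    have h1 : C ∩ D ⊆ A ∩ B := (hout C hC hCU).2 ▸ Finset.inter_subset_inter_left hDU
    have h2' : C ∩ D = A ∩ B := Finset.eq_of_subset_of_card_le h1 (by rw [hT, h2 C hC D hD hCD])
    exact h2' ▸ Finset.inter_subset_right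
  · exact (hout D hD hDU).1

/-- The signed support of an integer vector. -/
def signedSupp {X : Type*} [DecidableEq X] (S : Finset X) (c : X → ℤ) : Finset (X × ℤ) :=
  (S.filter fun x => c x ≠ 0).image fun x => (x, c x)

theorem mem_signedSupp {X : Type*} [DecidableEq X] {S : Finset X} {c : X → ℤ} {p : X × ℤ} :
    p ∈ signedSupp S c ↔ p.1 ∈ S ∧ p.2 ≠ 0 ∧ c p.1 = p.2 := by
  obtain ⟨x, i⟩ := p
  simp only [signedSupp, Finset.mem_image, Finset.mem_filter, Prod.mk.injEq]
  constructor
  · rintro ⟨y, ⟨h1, h2⟩, rfl, rfl⟩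
    exact ⟨h1, h2, rfl⟩
  · rintro ⟨h1, h2, rfl⟩
    exact ⟨x, ⟨h1, h2⟩, rfl, rfl⟩

theorem unit_of_norm_three {X : Type*} {S : Finset X} {c : X → ℤ} (hc : ∑ x ∈ S, c x * c x = 3) {x : X}
    (hx : x ∈ S) : c x = -1 ∨ c x = 0 ∨ c x = 1 := by
  have h : c x * c x ≤ 3 := hc ▸ Finset.single_le_sum (fun y _ => mul_self_nonneg (c y)) hx
  have : -1 ≤ c x := by nlinarith
  have : c x ≤ 1 := by nlinarith
  omega

theorem card_signedSupp {X : Type*} [DecidableEq X] {S : Finset X} {c : X → ℤ}
    (hc : ∑ x ∈ S, c x * c x = 3) : (signedSupp S c).card = 3 := by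
  rw [signedSupp, Finset.card_image_of_injective _ fun a b h => congrArg Prod.fst h]
  have h : ((S.filter fun x => c x ≠ 0).card : ℤ) = 3 := by
    rw [← hc, Finset.card_filter, Nat.cast_sum]
    refine Finset.sum_congr rfl fun x hx => ?_
    rcases unit_of_norm_three hc hx with e | e | e <;> simp [e]
  exact_mod_cast h

theorem signed_inter {X : Type*} [DecidableEq X] {S : Finset X} {c d : X → ℤ}
    (hc : ∑ x ∈ S, c x * c x = 3) (hd : ∑ x ∈ S, d x * d x = 3) (hcd : ∑ x ∈ S, c x * d x = 2) :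
    (signedSupp S c ∩ signedSupp S d).card = 2 ∧ ∀ x ∈ S, c x ≠ 0 → d x ≠ 0 → c x = d x := by
  have heq : signedSupp S c ∩ signedSupp S d
      = (S.filter fun x => c x ≠ 0 ∧ c x = d x).image fun x => (x, c x) := by
    ext ⟨x, i⟩
    simp only [Finset.mem_inter, mem_signedSupp, Finset.mem_image, Finset.mem_filter, Prod.mk.injEq]
    constructor
    · rintro ⟨⟨h1, h2, h3⟩, -, -, h4⟩
      exact ⟨x, ⟨h1, h3 ▸ h2, h3.trans h4.symm⟩, rfl, h3⟩
    · rintro ⟨y, ⟨h1, h2, h3⟩, rfl, rfl⟩
      exact ⟨⟨h1, h2, rfl⟩, h1, h2, h3.symm⟩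
  set P := S.filter fun x => c x ≠ 0 ∧ c x = d x
  set N := S.filter fun x => c x ≠ 0 ∧ d x ≠ 0 ∧ c x ≠ d x
  have hdiff : (P.card : ℤ) - N.card = 2 := by
    rw [← hcd, Finset.card_filter, Finset.card_filter, Nat.cast_sum, Nat.cast_sum, ← Finset.sum_sub_distrib]
    refine Finset.sum_congr rfl fun x hx => ?_
    rcases unit_of_norm_three hc hx with e | e | e <;>
      rcases unit_of_norm_three hd hx with f | f | f <;> simp [e, f]
  have hsum : (P.card : ℤ) + N.card ≤ 3 := by
    rw [← hc, Finset.card_filter, Finset.card_filter, Nat.cast_sum, Nat.cast_sum, ← Finset.sum_add_distrib]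
    refine Finset.sum_le_sum fun x hx => ?_
    rcases unit_of_norm_three hc hx with e | e | e <;>
      rcases unit_of_norm_three hd hx with f | f | f <;> simp [e, f]
  refine ⟨?_, fun x hx h1 h2 => ?_⟩
  · rw [heq, Finset.card_image_of_injective _ fun a b h => congrArg Prod.fst h]
    omega
  · by_contra h3
    have : 0 < N.card := Finset.card_pos.2 ⟨x, Finset.mem_filter.2 ⟨hx, h1, h2, h3⟩⟩
    omega

/-- The equation between the degrees. -/
theorem eq_one_of_degree_equation {A B : ℤ} (hA : (16 : ℤ) ∣ A - 1) (hB : (16 : ℤ) ∣ B - 1)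
    (h : (A * B + A + B) * (1 + A + B) = 9 * A * B) : A = 1 := by
  have key : A * (B - 1) ^ 2 + B * (A - 1) ^ 2 + (A - B) ^ 2 = 0 := by linear_combination h
  have aux : ∀ a b : ℤ, (16 : ℤ) ∣ -a - 1 → (16 : ℤ) ∣ b - 1 → 0 < a → 0 < b →
      a * (b - 1) ^ 2 = b * (a + 1) ^ 2 + (a + b) ^ 2 → False := by
    intro a b ha hb ha0 hb0 he
    have ha15 : 15 ≤ a := by omega
    have h1 : (a - 1) * b * (b - a - 7) = a * (a - 1) + 8 * b := by linear_combination he
    have hk : 0 < b - a - 7 := by
      by_contra hk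
      have : (a - 1) * b * (b - a - 7) ≤ 0 :=
        mul_nonpos_of_nonneg_of_nonpos (mul_nonneg (by omega) hb0.le) (by omega)
      nlinarith
    have hk2 : b - a - 7 < 2 := by
      by_contra hk2
      have h2 : (a - 1) * b * 2 ≤ (a - 1) * b * (b - a - 7) :=
        mul_le_mul_of_nonneg_left (by omega) (mul_nonneg (by omega) hb0.le)
      have h3 : a * (a - 1) ≤ b * (a - 1) := mul_le_mul_of_nonneg_right (by omega) (by omega)
      have h4 : 14 * b ≤ (a - 1) * b := mul_le_mul_of_nonneg_right (by omega) (by omega)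
      nlinarith
    omega
  rcases lt_trichotomy A 0 with hA0 | hA0 | hA0
  · exfalso
    rcases lt_trichotomy B 0 with hB0 | hB0 | hB0
    · have hA15 : A ≤ -15 := by omega
      have hB15 : B ≤ -15 := by omega
      nlinarith [sq_nonneg (A + B - 2), sq_nonneg (A - 1), sq_nonneg (B - 1)]
    · omega
    · refine aux (-A) B (by simpa using hA) hB (by omega) hB0 ?_
      linear_combination -key
  · omega
  · rcases lt_trichotomy B 0 with hB0 | hB0 | hB0
    · exfalso
      refine aux (-B) A (by simpa using hB) hA (by omega) hA0 ?_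
      linear_combination -key
    · omega
    · have h1 : 0 ≤ A * (B - 1) ^ 2 := by positivity
      have h2 : 0 ≤ B * (A - 1) ^ 2 := by positivity
      have h3 : (A - B) ^ 2 = 0 := by nlinarith [sq_nonneg (A - B)]
      have h4 : B * (A - 1) ^ 2 = 0 := by nlinarith [sq_nonneg (A - B)]
      have h5 := (mul_eq_zero.1 h4).resolve_left hB0.ne'
      have := pow_eq_zero_iff (n := 2) two_ne_zero |>.1 h5
      omega

end Cfsg.Agent.BrauerHomo
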